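import Mathlib

/-!
The Heisenberg group of a commutative ring, extended by `SL₂`, and its matrices of size four.
-/

set_option autoImplicit false
set_option linter.unusedSectionVars false
set_option linter.unusedSimpArgs false

namespace Cfsg.Agent.HeisSL2

open Matrix

/-- Triples with the product twisted by the determinant. -/
@[ext] structure Heis (R : Type*) where
  x : R
  y : R
  a : R

variable {R : Type*} [CommRing R]

instance : Mul (Heis R) := ⟨fun u v => ⟨u.x + v.x, u.y + v.y, u.a + v.a + (u.x * v.y - u.y * v.x)⟩⟩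
instance : One (Heis R) := ⟨⟨0, 0, 0⟩⟩
instance : Inv (Heis R) := ⟨fun u => ⟨-u.x, -u.y, -u.a⟩⟩

theorem mul_x (u v : Heis R) : (u * v).x = u.x + v.x := rfl
theorem mul_y (u v : Heis R) : (u * v).y = u.y + v.y := rfl
theorem mul_a (u v : Heis R) : (u * v).a = u.a + v.a + (u.x * v.y - u.y * v.x) := rfl

instance : Group (Heis R) where
  mul_assoc u v w := by ext <;> simp only [mul_x, mul_y, mul_a] <;> ring
  one_mul u := by
    ext
    · exact zero_add _
    · exact zero_add _
    · show 0 + u.a + (0 * u.y - 0 * u.x) = u.a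
      ring
  mul_one u := by
    ext
    · exact add_zero _
    · exact add_zero _
    · show u.a + 0 + (u.x * 0 - u.y * 0) = u.a
      ring
  inv_mul_cancel u := by
    ext
    · exact neg_add_cancel _
    · exact neg_add_cancel _
    · show -u.a + u.a + (-u.x * u.y - -u.y * u.x) = 0
      ring

theorem one_x : (1 : Heis R).x = 0 := rfl
theorem one_y : (1 : Heis R).y = 0 := rfl
theorem one_a : (1 : Heis R).a = 0 := rfl

/-- The triples as a type. -/
def Heis.equivProd : Heis R ≃ R × R × R where
  toFun u := (u.x, u.y, u.a)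
  invFun p := ⟨p.1, p.2.1, p.2.2⟩

theorem sl_det (A : SpecialLinearGroup (Fin 2) R) :
    (A : Matrix (Fin 2) (Fin 2) R) 0 0 * (A : Matrix (Fin 2) (Fin 2) R) 1 1 -
      (A : Matrix (Fin 2) (Fin 2) R) 0 1 * (A : Matrix (Fin 2) (Fin 2) R) 1 0 = 1 := by
  rw [← Matrix.det_fin_two]
  exact A.2

theorem sl_val_mul (A B : SpecialLinearGroup (Fin 2) R) :
    ((A * B : SpecialLinearGroup (Fin 2) R) : Matrix (Fin 2) (Fin 2) R) =
      (A : Matrix (Fin 2) (Fin 2) R) * (B : Matrix (Fin 2) (Fin 2) R) := rfl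

theorem sl_val_one :
    ((1 : SpecialLinearGroup (Fin 2) R) : Matrix (Fin 2) (Fin 2) R) = 1 := rfl

/-- `(x, y) ↦ (x, y) A⁻¹`. -/
def actFun (A : SpecialLinearGroup (Fin 2) R) (u : Heis R) : Heis R :=
  ⟨u.x * (A : Matrix (Fin 2) (Fin 2) R) 1 1 - u.y * (A : Matrix (Fin 2) (Fin 2) R) 1 0,
    -(u.x * (A : Matrix (Fin 2) (Fin 2) R) 0 1) + u.y * (A : Matrix (Fin 2) (Fin 2) R) 0 0, u.a⟩

theorem actFun_mul (A : SpecialLinearGroup (Fin 2) R) (u v : Heis R) :
    actFun A (u * v) = actFun A u * actFun A v := by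
  have h := sl_det A
  ext <;> simp only [actFun, mul_x, mul_y, mul_a]
  · ring
  · ring
  · linear_combination -(u.x * v.y - u.y * v.x) * h

theorem actFun_comp (A B : SpecialLinearGroup (Fin 2) R) (u : Heis R) :
    actFun (A * B) u = actFun A (actFun B u) := by
  ext <;> simp only [actFun, sl_val_mul, Matrix.mul_apply, Fin.sum_univ_two] <;> ring

theorem actFun_one (u : Heis R) : actFun (1 : SpecialLinearGroup (Fin 2) R) u = u := by
  ext <;> simp [actFun]

/-- The action of `SL₂`. -/
def act : SpecialLinearGroup (Fin 2) R →* MulAut (Heis R) where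
  toFun A :=
    { toFun := actFun A
      invFun := actFun A⁻¹
      left_inv := fun u => by rw [← actFun_comp, inv_mul_cancel, actFun_one]
      right_inv := fun u => by rw [← actFun_comp, mul_inv_cancel, actFun_one]
      map_mul' := actFun_mul A }
  map_one' := MulEquiv.ext actFun_one
  map_mul' A B := MulEquiv.ext (actFun_comp A B)

theorem act_apply (A : SpecialLinearGroup (Fin 2) R) (u : Heis R) : act A u = actFun A u := rfl

/-- The group `R^{1+2} : SL₂`. -/
abbrev Model (R : Type*) [CommRing R] := Heis R ⋊[act] SpecialLinearGroup (Fin 2) R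

/-- The central element `(0, 0, 1)`. -/
def zC : Model R := SemidirectProduct.inl ⟨0, 0, 1⟩

theorem zC_central (m : Model R) : zC * m = m * zC := by
  have h : actFun m.right (⟨0, 0, 1⟩ : Heis R) = ⟨0, 0, 1⟩ := by ext <;> simp [actFun]
  refine SemidirectProduct.ext ?_ (by simp [zC])
  rw [SemidirectProduct.mul_left, SemidirectProduct.mul_left, zC, SemidirectProduct.left_inl,
    SemidirectProduct.right_inl, map_one, MulAut.one_apply, act_apply, h]
  ext <;> simp [mul_x, mul_y, mul_a] <;> ring

variable {F : Type*} [CommRing F]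

/-- The matrix with given parameters. -/
def mat (x y a : F) (A : Matrix (Fin 2) (Fin 2) F) : Matrix (Fin 2 ⊕ Fin 2) (Fin 2 ⊕ Fin 2) F :=
  fromBlocks !![1, x * A 0 0 + y * A 1 0; 0, A 0 0] !![a, x * A 0 1 + y * A 1 1; y, A 0 1]
    !![0, 0; 0, A 1 0] !![1, 0; -x, A 1 1]

theorem mat_mem (x y a : F) {A : Matrix (Fin 2) (Fin 2) F} (h : A.det = 1) :
    mat x y a A ∈ Matrix.symplecticGroup (Fin 2) F := by
  rw [Matrix.det_fin_two] at h
  rw [mat, SymplecticGroup.fromBlocks_mem_iff]
  refine ⟨?_, ?_, ?_⟩ <;> ext i j <;> fin_cases i <;> fin_cases j <;>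
    simp [Matrix.mul_apply, Fin.sum_univ_two] <;>
    first
      | ring1
      | linear_combination h

theorem mat_mul (x y a x' y' a' : F) {A B : Matrix (Fin 2) (Fin 2) F} (h : A.det = 1) :
    mat x y a A * mat x' y' a' B =
      mat (x + (x' * A 1 1 - y' * A 1 0)) (y + (-(x' * A 0 1) + y' * A 0 0))
        (a + a' + (x * (-(x' * A 0 1) + y' * A 0 0) - y * (x' * A 1 1 - y' * A 1 0))) (A * B) := by
  rw [Matrix.det_fin_two] at h
  rw [mat, mat, mat, fromBlocks_multiply]
  congr 1 <;> ext i j <;> fin_cases i <;> fin_cases j <;>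
    simp [Matrix.mul_apply, Fin.sum_univ_two] <;>
    first
      | ring1
      | linear_combination -(x' * B 0 0 + y' * B 1 0) * h
      | linear_combination -(x' * B 0 1 + y' * B 1 1) * h

theorem mat_one : mat (0 : F) 0 0 1 = 1 := by
  rw [mat, ← fromBlocks_one]
  congr 1 <;> ext i j <;> fin_cases i <;> fin_cases j <;> simp

variable (σ : R →+* F)

/-- The matrices of the model. -/
def toSp : Model R →* Matrix.symplecticGroup (Fin 2) F where
  toFun m := ⟨mat (σ m.left.x) (σ m.left.y) (σ m.left.a) ((m.right : Matrix (Fin 2) (Fin 2) R).map σ),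
    mat_mem _ _ _ (by
      rw [← RingHom.mapMatrix_apply, ← RingHom.map_det, m.right.2, map_one])⟩
  map_one' := by
    apply Subtype.ext
    show mat _ _ _ _ = 1
    rw [SemidirectProduct.one_left, SemidirectProduct.one_right, one_x, one_y, one_a, map_zero,
      sl_val_one, Matrix.map_one _ σ.map_zero σ.map_one, mat_one]
  map_mul' m n := by
    apply Subtype.ext
    show mat _ _ _ _ = mat _ _ _ _ * mat _ _ _ _
    rw [mat_mul _ _ _ _ _ _ (by rw [← RingHom.mapMatrix_apply, ← RingHom.map_det, m.right.2, map_one]),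
      SemidirectProduct.mul_left, SemidirectProduct.mul_right, sl_val_mul, Matrix.map_mul]
    simp only [act_apply, actFun, mul_x, mul_y, mul_a, map_add, map_sub, map_mul, map_neg, Matrix.map_apply]

theorem toSp_coe (m : Model R) : ((toSp σ m : Matrix.symplecticGroup (Fin 2) F) :
    Matrix (Fin 2 ⊕ Fin 2) (Fin 2 ⊕ Fin 2) F) =
    mat (σ m.left.x) (σ m.left.y) (σ m.left.a) ((m.right : Matrix (Fin 2) (Fin 2) R).map σ) := rfl

theorem toSp_zC : ((toSp σ (zC : Model R) : Matrix.symplecticGroup (Fin 2) F) :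
    Matrix (Fin 2 ⊕ Fin 2) (Fin 2 ⊕ Fin 2) F) = fromBlocks 1 !![1, 0; 0, 0] 0 1 := by
  rw [toSp_coe, mat]
  congr 1 <;> ext i j <;> fin_cases i <;> fin_cases j <;> simp [zC]

/-- A symplectic matrix commuting with the transvection is, up to sign, a matrix of the model. -/
theorem exists_of_commute (hσ : Function.Bijective σ) (g : Matrix.symplecticGroup (Fin 2) F)
    (hc : g * toSp σ (zC : Model R) = toSp σ (zC : Model R) * g) :
    ∃ (m : Model R) (e : F), e * e = 1 ∧
      (g : Matrix (Fin 2 ⊕ Fin 2) (Fin 2 ⊕ Fin 2) F) =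
        e • ((toSp σ m : Matrix.symplecticGroup (Fin 2) F) : Matrix (Fin 2 ⊕ Fin 2) (Fin 2 ⊕ Fin 2) F) := by
  obtain ⟨M, hM⟩ := g
  have h := congrArg Subtype.val hc
  rw [Submonoid.coe_mul, Submonoid.coe_mul, toSp_zC] at h
  change M * _ = _ * M at h
  obtain ⟨A, B, C, D, rfl⟩ : ∃ A B C D, M = fromBlocks A B C D :=
    ⟨_, _, _, _, (fromBlocks_toBlocks M).symm⟩
  rw [fromBlocks_multiply, fromBlocks_multiply, fromBlocks_inj] at h
  obtain ⟨h1, h2, -, h4⟩ := h
  simp only [Matrix.mul_one, Matrix.one_mul, Matrix.mul_zero, Matrix.zero_mul, add_zero, zero_add,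
    left_eq_add, right_eq_add, add_eq_left, add_eq_right] at h1 h2 h4
  have c00 : C 0 0 = 0 := by
    have := congrFun (congrFun h1 0) 0
    simpa [Matrix.mul_apply, Fin.sum_univ_two, Matrix.vecMul, dotProduct] using this
  have c01 : C 0 1 = 0 := by
    have := congrFun (congrFun h1 0) 1
    simpa [Matrix.mul_apply, Fin.sum_univ_two, Matrix.vecMul, dotProduct] using this
  have c10 : C 1 0 = 0 := by
    have := congrFun (congrFun h4 1) 0
    simpa [Matrix.mul_apply, Fin.sum_univ_two, Matrix.vecMul, dotProduct] using this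
  have a10 : A 1 0 = 0 := by
    have := congrFun (congrFun h2 1) 0
    simpa [Matrix.mul_apply, Fin.sum_univ_two, Matrix.vecMul, dotProduct] using this
  have d01 : D 0 1 = 0 := by
    have := congrFun (congrFun h2 0) 1
    simpa [Matrix.mul_apply, Fin.sum_univ_two, Matrix.vecMul, dotProduct, eq_comm] using this
  have ad : A 0 0 = D 0 0 := by
    have := congrFun (congrFun h2 0) 0
    simp [Matrix.mul_apply, Fin.sum_univ_two, Matrix.vecMul, dotProduct] at this
    linear_combination this
  obtain ⟨-, hBD, hAD⟩ := SymplecticGroup.fromBlocks_mem_iff.1 hM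
  have e00 := congrFun (congrFun hAD 0) 0
  have e10 := congrFun (congrFun hAD 1) 0
  have e11 := congrFun (congrFun hAD 1) 1
  have f01 := congrFun (congrFun hBD 0) 1
  simp [Matrix.mul_apply, Fin.sum_univ_two, c00, c01, c10, a10, d01] at e00 e10 e11 f01
  set e := A 0 0 with he
  rw [← ad] at e00 e10 f01
  let s : F → R := fun v => (Equiv.ofBijective σ hσ).symm v
  have hs : ∀ v, σ (s v) = v := fun v => (Equiv.ofBijective σ hσ).apply_symm_apply v
  have hdet : (Matrix.det !![s (e * A 1 1), s (e * B 1 1); s (e * C 1 1), s (e * D 1 1)]) = 1 := by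
    apply hσ.injective
    rw [map_one, Matrix.det_fin_two]
    simp only [Matrix.of_apply, Matrix.cons_val', Matrix.cons_val_zero, Matrix.cons_val_one,
      Matrix.cons_val_fin_one, map_sub, map_mul, hs]
    linear_combination e00 + e * e * e11
  refine ⟨⟨⟨s (-(e * D 1 0)), s (e * B 1 0), s (e * B 0 0)⟩,
    ⟨!![s (e * A 1 1), s (e * B 1 1); s (e * C 1 1), s (e * D 1 1)], hdet⟩⟩, e, e00, ?_⟩
  rw [toSp_coe, mat, fromBlocks_smul, fromBlocks_inj]
  refine ⟨?_, ?_, ?_, ?_⟩ <;> ext i j <;> fin_cases i <;> fin_cases j <;>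
    simp [hs, c00, c01, c10, a10, d01, ← he, ← ad] <;>
    first
      | linear_combination (-(A 1 1)) * e00
      | linear_combination (-(B 0 0)) * e00
      | linear_combination (-(B 1 0)) * e00
      | linear_combination (-(B 1 1)) * e00
      | linear_combination (-(C 1 1)) * e00
      | linear_combination (-(D 1 0)) * e00
      | linear_combination (-(D 1 1)) * e00
      | linear_combination e * e10 - (A 0 1 + e * (-(A 1 1) * D 1 0 + C 1 1 * B 1 0)) * e00
      | linear_combination -(e * f01) - (B 0 1 + e * (-(B 1 1) * D 1 0 + D 1 1 * B 1 0)) * e00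

end Cfsg.Agent.HeisSL2
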