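import Mathlib
import Cfsg.Prelude.Def_Classical
import Cfsg.Agent.Lib.HeisSL2.Model
import Cfsg.Agent.Lib.GL.SympOrders

/-!
The model is the centraliser of a 3-central element of order 3 in `PSp₄(3)`.
-/

set_option autoImplicit false
set_option linter.unusedSectionVars false

namespace Cfsg.Agent.HeisSL2

open Matrix

theorem card_model : Nat.card (Model (ZMod 3)) = 648 := by
  rw [SemidirectProduct.card, Nat.card_congr Heis.equivProd, Nat.card_prod, Nat.card_prod, Nat.card_zmod,
    show Nat.card (SpecialLinearGroup (Fin 2) (ZMod 3)) = 24 by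
      rw [Nat.card_eq_fintype_card]; decide +kernel]

theorem finite_model : Finite (Model (ZMod 3)) :=
  Nat.finite_of_card_ne_zero (by rw [card_model]; norm_num)

theorem zC_three : (zC : Model (ZMod 3)) ^ 3 = 1 := by
  rw [zC, ← map_pow, show (⟨0, 0, 1⟩ : Heis (ZMod 3)) ^ 3 = 1 from ?_, map_one]
  rw [pow_succ, pow_two]
  ext <;> simp [mul_x, mul_y, mul_a, one_x, one_y, one_a]
  decide

theorem zC_ne_one : (zC : Model (ZMod 3)) ≠ 1 := fun h => by
  have := congrArg (fun m : Model (ZMod 3) => m.left.a) h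
  simp [zC, one_a] at this

variable (F : Type*) [Field F] [Fintype F]

local notation "Sp4" => Matrix.symplecticGroup (Fin 2) F

theorem center_scalar (z : Sp4) (hz : z ∈ Subgroup.center Sp4) :
    ∃ e : F, e * e = 1 ∧ (z : Matrix (Fin 2 ⊕ Fin 2) (Fin 2 ⊕ Fin 2) F) = e • 1 := by
  obtain ⟨e, he⟩ := GL.symp_center_scalar z hz
  refine ⟨e, GL.symp_scalar_sq (n := 2) (by norm_num) ?_, he⟩
  rw [← he]
  exact GL.mem_symplectic_iff_preserves.1 z.2

theorem center_sq (z : Sp4) (hz : z ∈ Subgroup.center Sp4) : z * z = 1 := by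
  obtain ⟨e, he2, he⟩ := center_scalar F z hz
  apply Subtype.ext
  rw [Submonoid.coe_mul, he, smul_mul_smul_comm, he2, one_smul, one_mul]
  rfl

variable {F}

theorem exists_cent (hF : Fintype.card F = 3) :
    ∃ (c : Cfsg.PSp 2 F) (S : Sylow 3 (Cfsg.PSp 2 F)), orderOf c = 3 ∧
      c ∈ (S : Subgroup (Cfsg.PSp 2 F)) ∧
      c ∈ Subgroup.centralizer ((S : Subgroup (Cfsg.PSp 2 F)) : Set (Cfsg.PSp 2 F)) ∧
      Nonempty (Model (ZMod 3) ≃* Subgroup.centralizer ({c} : Set (Cfsg.PSp 2 F))) := by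
  classical
  haveI : Fact (Nat.Prime 3) := ⟨by norm_num⟩
  set σ : ZMod 3 →+* F := (ZMod.ringEquivOfPrime F (by norm_num) hF).toRingHom with hσdef
  have hσ : Function.Bijective σ := (ZMod.ringEquivOfPrime F (by norm_num) hF).bijective
  let π : Model (ZMod 3) →* Cfsg.PSp 2 F := (QuotientGroup.mk' _).comp (toSp σ)
  have hπinj : Function.Injective π := by
    rw [injective_iff_map_eq_one]
    intro m hm
    have hz : toSp σ m ∈ Subgroup.center Sp4 := (QuotientGroup.eq_one_iff _).1 hm
    obtain ⟨e, -, he⟩ := center_scalar F _ hz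
    rw [toSp_coe, mat, ← fromBlocks_one, fromBlocks_smul, fromBlocks_inj] at he
    obtain ⟨hA, hB, hC, hD⟩ := he
    have e1 : e = 1 := by
      have := congrFun (congrFun hA 0) 0
      simpa [eq_comm] using this
    subst e1
    have hy := congrFun (congrFun hB 1) 0
    have ha := congrFun (congrFun hB 0) 0
    have hx := congrFun (congrFun hD 1) 0
    have h00 := congrFun (congrFun hA 1) 1
    have h01 := congrFun (congrFun hB 1) 1
    have h10 := congrFun (congrFun hC 1) 1
    have h11 := congrFun (congrFun hD 1) 1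
    simp at hy ha hx h00 h01 h10 h11
    refine SemidirectProduct.ext (Heis.ext ?_ ?_ ?_) ?_
    · exact hσ.injective (by simpa [one_x] using hx)
    · exact hσ.injective (by simpa [one_y] using hy)
    · exact hσ.injective (by simpa [one_a] using ha)
    · refine Subtype.ext (Matrix.ext fun i j => hσ.injective ?_)
      rw [SemidirectProduct.one_right, sl_val_one]
      fin_cases i <;> fin_cases j <;> simp [h00, h01, h10, h11]
  set c : Cfsg.PSp 2 F := π zC with hc
  have hc3 : orderOf c = 3 := by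
    rw [hc, orderOf_injective π hπinj]
    refine orderOf_eq_prime ?_ ?_
    · exact zC_three
    · exact zC_ne_one
  have hrange : π.range = Subgroup.centralizer ({c} : Set (Cfsg.PSp 2 F)) := by
    refine le_antisymm ?_ fun g hg => ?_
    · rintro _ ⟨m, rfl⟩
      rw [Subgroup.mem_centralizer_singleton_iff, hc, ← map_mul, ← map_mul, zC_central]
    · rw [Subgroup.mem_centralizer_singleton_iff] at hg
      obtain ⟨g, rfl⟩ := QuotientGroup.mk'_surjective _ g
      set C₀ := toSp σ (zC : Model (ZMod 3)) with hC₀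
      have hz : g * C₀ * g⁻¹ * C₀⁻¹ ∈ Subgroup.center Sp4 := by
        rw [← QuotientGroup.eq_one_iff]
        show (QuotientGroup.mk' (Subgroup.center Sp4)) (g * C₀ * g⁻¹ * C₀⁻¹) = 1
        rw [map_mul, map_mul, map_mul, map_inv, map_inv]
        have : (QuotientGroup.mk' (Subgroup.center Sp4)) C₀ = c := rfl
        rw [this, hg, mul_inv_cancel_right, mul_inv_cancel]
      set z := g * C₀ * g⁻¹ * C₀⁻¹ with hzdef
      have h3 : C₀ ^ 3 = 1 := by
        rw [hC₀, ← map_pow, zC_three,
          map_one]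
      have hz1 : z = 1 := by
        have hzc : Commute z C₀ := (Subgroup.mem_center_iff.1 hz C₀).symm
        have e : z * C₀ = g * C₀ * g⁻¹ := by rw [hzdef, inv_mul_cancel_right]
        have e3 : (z * C₀) ^ 3 = 1 := by rw [e, conj_pow, h3, mul_one, mul_inv_cancel]
        rw [hzc.mul_pow, h3, mul_one, pow_succ, pow_two, center_sq F z hz, one_mul] at e3
        exact e3
      have hcomm : g * C₀ = C₀ * g := by
        have := hz1
        rw [hzdef, mul_inv_eq_one, mul_inv_eq_iff_eq_mul] at this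
        exact this
      obtain ⟨m, e, he, hge⟩ := exists_of_commute σ hσ g hcomm
      refine ⟨m, ?_⟩
      show QuotientGroup.mk' (Subgroup.center Sp4) (toSp σ m) = QuotientGroup.mk' (Subgroup.center Sp4) g
      refine (QuotientGroup.eq.2 ?_)
      rw [Subgroup.mem_center_iff]
      intro k
      have hco : ((toSp σ m)⁻¹ * g : Sp4).1 = e • (1 : Matrix (Fin 2 ⊕ Fin 2) (Fin 2 ⊕ Fin 2) F) := by
        rw [Submonoid.coe_mul, hge, Matrix.mul_smul, ← Submonoid.coe_mul, inv_mul_cancel, Submonoid.coe_one]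
      apply Subtype.ext
      show (k : Matrix (Fin 2 ⊕ Fin 2) (Fin 2 ⊕ Fin 2) F) *
          (((toSp σ m)⁻¹ * g : Sp4) : Matrix (Fin 2 ⊕ Fin 2) (Fin 2 ⊕ Fin 2) F) =
        (((toSp σ m)⁻¹ * g : Sp4) : Matrix (Fin 2 ⊕ Fin 2) (Fin 2 ⊕ Fin 2) F) *
          (k : Matrix (Fin 2 ⊕ Fin 2) (Fin 2 ⊕ Fin 2) F)
      rw [hco, Matrix.mul_smul, Matrix.smul_mul, mul_one, one_mul]
  -- a Sylow subgroup of the model is one of the projective group
  haveI := finite_model
  obtain ⟨P⟩ : Nonempty (Sylow 3 (Model (ZMod 3))) := Sylow.nonempty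
  have hP : Nat.card P = 81 := by
    rw [P.card_eq_multiplicity, card_model]
    have : Nat.factorization 648 3 = 4 := by
      rw [Nat.factorization_def _ (by norm_num), show (648 : ℕ) = 3 ^ 4 * 8 by norm_num,
        padicValNat.mul (by norm_num) (by norm_num), padicValNat.prime_pow,
        padicValNat.eq_zero_of_not_dvd (by norm_num)]
    rw [this]
    norm_num
  have hzn : (Subgroup.zpowers (zC : Model (ZMod 3))).Normal := by
    refine ⟨fun x hx g => ?_⟩
    obtain ⟨i, rfl⟩ := Subgroup.mem_zpowers_iff.1 hx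
    have : Commute g (zC : Model (ZMod 3)) := (zC_central g).symm
    rw [(this.zpow_right i).eq, mul_inv_cancel_right]
    exact Subgroup.zpow_mem_zpowers _ i
  have hcP : (zC : Model (ZMod 3)) ∈ (P : Subgroup (Model (ZMod 3))) := by
    have hz : IsPGroup 3 (Subgroup.zpowers (zC : Model (ZMod 3))) := by
      refine IsPGroup.of_card (n := 1) ?_
      rw [Nat.card_zpowers, pow_one, ← orderOf_injective π hπinj, ← hc, hc3]
    exact hz.le_sylow_of_normal P (Subgroup.mem_zpowers _)
  have hcardZ : Nat.card (Cfsg.PSp 2 F) * Nat.card (Subgroup.center Sp4) = 51840 := by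
    have h := Forms.card_symplecticGroup (F := F) 2
    rw [← Subgroup.index_mul_card (Subgroup.center Sp4), hF] at h
    rw [show Nat.card (Cfsg.PSp 2 F) = (Subgroup.center Sp4).index from rfl, h]
    norm_num [Finset.prod_range_succ]
  have hnd : ¬ 3 ^ 5 ∣ Nat.card (Cfsg.PSp 2 F) := fun h => by
    have : 3 ^ 5 ∣ 51840 := hcardZ ▸ dvd_mul_of_dvd_left h _
    norm_num at this
  set P' : Subgroup (Cfsg.PSp 2 F) := (P : Subgroup (Model (ZMod 3))).map π with hP'
  have hP'c : Nat.card P' = 3 ^ 4 := by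
    rw [hP', Subgroup.card_map_of_injective hπinj, hP]; norm_num
  have hfac : (Nat.card (Cfsg.PSp 2 F)).factorization 3 = 4 := by
    have h4 : 3 ^ 4 ∣ Nat.card (Cfsg.PSp 2 F) := hP'c ▸ Subgroup.card_subgroup_dvd_card P'
    have hne : Nat.card (Cfsg.PSp 2 F) ≠ 0 := Nat.card_pos.ne'
    refine le_antisymm ?_ ((Nat.Prime.pow_dvd_iff_le_factorization (by norm_num) hne).1 h4)
    by_contra hlt
    exact hnd ((Nat.Prime.pow_dvd_iff_le_factorization (by norm_num) hne).2 (by omega))
  refine ⟨c, Sylow.ofCard P' (by rw [hP'c, hfac]), hc3, ⟨zC, hcP, rfl⟩, ?_, ?_⟩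
  · rw [Subgroup.mem_centralizer_iff]
    rintro _ ⟨m, -, rfl⟩
    rw [hc, ← map_mul, ← map_mul, zC_central]
  · rw [← hrange]
    exact ⟨MonoidHom.ofInjective hπinj⟩

end Cfsg.Agent.HeisSL2
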