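import Mathlib
import Cfsg.Prelude.Def_Transfer
import Cfsg.Prelude.Def_Solvable
import Cfsg.Agent.Lib.PCore.Basic
import Cfsg.Agent.Lib.HeisSL2.Model

/-!
Recognition of `3^{1+2} : SL₂(3)`.
-/

set_option autoImplicit false
set_option linter.unusedSectionVars false
set_option linter.unusedSimpArgs false
set_option linter.style.haveILetI false

namespace Cfsg.Agent.HeisSL2

open Matrix
open scoped Pointwise

local notation "SL" => SpecialLinearGroup (Fin 2) (ZMod 3)
local notation "V2" => ZMod 3 × ZMod 3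
local notation "M22" => Matrix (Fin 2) (Fin 2) (ZMod 3)

/-- Row vector times matrix. -/
def rmul (v : V2) (A : M22) : V2 := (v.1 * A 0 0 + v.2 * A 1 0, v.1 * A 0 1 + v.2 * A 1 1)

/-- The determinant of two rows. -/
def det2 (v w : V2) : ZMod 3 := v.1 * w.2 - v.2 * w.1

theorem sl_generated : ∀ A : SL, ∃ B C : SL, B ^ 3 = 1 ∧ C ^ 3 = 1 ∧ (A = B * C ∨ A = (B * C) ^ 2) := by
  decide +kernel

theorem sl_neg_one_of_normal : ∀ A : SL, A ≠ 1 → A = -1 ∨ A ^ 2 = -1 ∨ A ^ 3 = -1 ∨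
    ∃ B : SL, (B * A * B⁻¹ * A⁻¹) ^ 2 = -1 := by
  decide +kernel

theorem sl_eight : ∀ A : SL, A ^ 8 = 1 → A ^ 4 = 1 := by decide +kernel

theorem sl_card_four : Fintype.card {A : SL // A ^ 4 = 1} = 8 := by decide +kernel

theorem zmod_cases : ∀ i : ZMod 3, i = 0 ∨ i = 1 ∨ i = -1 := by decide

theorem zmod_val_one : (1 : ZMod 3).val = 1 := by decide

theorem v2_eq_neg : ∀ v : V2, v = -v → v = 0 := by decide

theorem zmod_self_neg : ∀ i : ZMod 3, i = -i → i = 0 := by decide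

theorem zmod_shift : ∀ i j : ZMod 3, -i + j = j + i → i = 0 := by decide

theorem zmod_double : ∀ i : ZMod 3, i + i = -i := by decide

theorem zmod_half : ∀ d c : ZMod 3, c = d + d → d = 2 * c := by decide

theorem zmod_two_mul : ∀ i : ZMod 3, 2 * i = 0 → i = 0 := by decide

theorem sl_comm_neg : ∀ B : SL, B * -1 * B⁻¹ * (-1)⁻¹ = 1 := by decide +kernel

theorem sl_comm_neg' : ∀ B : SL, B * -1 * B⁻¹ * -1 = 1 := by decide +kernel

theorem sl_val_inv (A : SL) : ((A⁻¹ : SL) : M22) = Matrix.adjugate (A : M22) := rfl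

theorem card_sl : Nat.card SL = 24 := by rw [Nat.card_eq_fintype_card]; decide +kernel

theorem det2_eq_zero : ∀ v w : V2, v ≠ 0 → det2 v w = 0 → ∃ k : ℕ, w = k • v := by
  have h : ∀ v w : V2, v ≠ 0 → det2 v w = 0 → ∃ k : Fin 3, w = (k : ℕ) • v := by decide +kernel
  exact fun v w hv hw => (h v w hv hw).elim fun k hk => ⟨k, hk⟩

/-- The hypotheses, in an unbundled form. -/
structure Setting (X : Type*) [Group X] where
  R : Subgroup X
  normal : R.Normal
  card_R : Nat.card R = 27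
  exp : ∀ r ∈ R, r ^ 3 = 1
  q : X →* SL
  q_surj : Function.Surjective q
  q_ker : ∀ x, q x = 1 ↔ x ∈ R
  no_inv : ∀ w : X, w ^ 2 = 1 → (∀ x : X, x * w = w * x) → w = 1
  card_center : Nat.card (Subgroup.center R) = 3
  comm_le : commutator R ≤ Subgroup.center R

variable {X : Type*} [Group X] [Finite X]

theorem Setting.card_X (S : Setting X) : Nat.card X = 648 := by
  have hk : S.q.ker = S.R := by ext x; rw [MonoidHom.mem_ker, S.q_ker]
  rw [← Subgroup.card_mul_index S.q.ker, Subgroup.index_ker, MonoidHom.range_eq_top.2 S.q_surj,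
    Subgroup.card_top, hk, S.card_R, card_sl]

theorem Setting.exists_iso (S : Setting X)
    (hE : ∃ E : Subgroup X, IsMulCommutative E ∧ (∀ a ∈ E, a ^ 3 = 1) ∧ Nat.card E = 27) :
    Nonempty (Model (ZMod 3) ≃* X) := by
  classical
  haveI : Fact (Nat.Prime 3) := ⟨by norm_num⟩
  haveI := S.normal
  set R := S.R with hR
  set Z : Subgroup X := (Subgroup.center R).map R.subtype with hZ
  have hZR : Z ≤ R := Subgroup.map_subtype_le _
  have memZ : ∀ {x : X}, x ∈ Z ↔ x ∈ R ∧ ∀ r ∈ R, x * r = r * x := by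
    intro x
    constructor
    · rintro ⟨y, hy, rfl⟩
      exact ⟨y.2, fun r hr => (congrArg Subtype.val (Subgroup.mem_center_iff.1 hy ⟨r, hr⟩)).symm⟩
    · rintro ⟨hx, h⟩
      exact ⟨⟨x, hx⟩, Subgroup.mem_center_iff.2 fun y => Subtype.ext (h y.1 y.2).symm, rfl⟩
  have hZcard : Nat.card Z = 3 := by
    rw [hZ, Subgroup.card_map_of_injective R.subtype_injective, S.card_center]
  have hcommZ : ∀ r ∈ R, ∀ s ∈ R, r * s * r⁻¹ * s⁻¹ ∈ Z := fun r hr s hs =>
    ⟨⟨r, hr⟩ * ⟨s, hs⟩ * ⟨r, hr⟩⁻¹ * ⟨s, hs⟩⁻¹, S.comm_le (Subgroup.commutator_mem_commutator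
      (Subgroup.mem_top _) (Subgroup.mem_top _)), rfl⟩
  -- two elements that do not commute
  obtain ⟨a, haR, b, hbR, hab⟩ : ∃ a ∈ R, ∃ b ∈ R, a * b ≠ b * a := by
    by_contra h
    push Not at h
    have : Subgroup.center R = ⊤ := (Subgroup.eq_top_iff' _).2 fun y =>
      Subgroup.mem_center_iff.2 fun z => Subtype.ext (h z z.2 y y.2)
    have h3 := S.card_center
    rw [this, Subgroup.card_top, S.card_R] at h3
    omega
  set c₀ := a * b * a⁻¹ * b⁻¹ with hc₀
  have hc₀Z : c₀ ∈ Z := hcommZ a haR b hbR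
  have hc₀1 : c₀ ≠ 1 := by
    intro h
    rw [hc₀, mul_inv_eq_one, mul_inv_eq_iff_eq_mul] at h
    exact hab h
  have hc₀3 : c₀ ^ 3 = 1 := S.exp _ (hZR hc₀Z)
  have ho : orderOf c₀ = 3 := orderOf_eq_prime hc₀3 hc₀1
  let zp : ZMod 3 → X := fun i => c₀ ^ i.val
  have zp_add : ∀ i j, zp (i + j) = zp i * zp j := fun i j => by
    show c₀ ^ (i + j).val = c₀ ^ i.val * c₀ ^ j.val
    rw [← pow_add, ZMod.val_add, pow_eq_pow_mod (i.val + j.val) hc₀3]
  have zp0 : zp 0 = 1 := by simp [zp]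
  have zp1 : zp 1 = c₀ := by
    show c₀ ^ (1 : ZMod 3).val = c₀
    rw [zmod_val_one, pow_one]
  have zp_neg : ∀ i, zp (-i) = (zp i)⁻¹ := fun i => by
    rw [eq_inv_iff_mul_eq_one, ← zp_add, neg_add_cancel, zp0]
  have zp_inj : Function.Injective zp := fun i j h =>
    ZMod.val_injective 3 (pow_injOn_Iio_orderOf (by rw [Set.mem_Iio, ho]; exact ZMod.val_lt i)
      (by rw [Set.mem_Iio, ho]; exact ZMod.val_lt j) h)
  have zp_surj : ∀ x ∈ Z, ∃ i, zp i = x := by
    intro x hx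
    rw [← Subgroup.eq_of_le_of_card_ge (Subgroup.zpowers_le.2 hc₀Z)
      (by rw [hZcard, Nat.card_zpowers, ho]), ← mem_powers_iff_mem_zpowers] at hx
    obtain ⟨k, rfl⟩ := hx
    exact ⟨k, by show c₀ ^ (k : ZMod 3).val = c₀ ^ k; rw [ZMod.val_natCast, ← pow_eq_pow_mod _ hc₀3]⟩
  have zp_mem : ∀ i, zp i ∈ Z := fun i => pow_mem hc₀Z _
  let cz : X → ZMod 3 := fun x => if h : ∃ i, zp i = x then h.choose else 0
  have cz_zp : ∀ i, cz (zp i) = i := fun i => by
    have h : ∃ j, zp j = zp i := ⟨i, rfl⟩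
    show (if h : ∃ j, zp j = zp i then h.choose else 0) = i
    rw [dif_pos h]
    exact zp_inj h.choose_spec
  have zp_cz : ∀ x ∈ Z, zp (cz x) = x := fun x hx => by
    obtain ⟨i, rfl⟩ := zp_surj x hx
    rw [cz_zp]
  -- the commutator form
  let cm : X → X → ZMod 3 := fun r s => cz (r * s * r⁻¹ * s⁻¹)
  have cm_mul_left : ∀ r ∈ R, ∀ s ∈ R, ∀ t ∈ R, cm (r * s) t = cm r t + cm s t := by
    intro r hr s hs t ht
    show cz _ = _
    have h1 := zp_cz _ (hcommZ r hr t ht)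
    have h2 := zp_cz _ (hcommZ s hs t ht)
    have hce := (memZ.1 (hcommZ s hs t ht)).2 r hr
    have e : r * s * t * (r * s)⁻¹ * t⁻¹ = r * t * r⁻¹ * t⁻¹ * (s * t * s⁻¹ * t⁻¹) := by
      rw [← ((memZ.1 (hcommZ s hs t ht)).2 _ (hZR (hcommZ r hr t ht)))]
      calc r * s * t * (r * s)⁻¹ * t⁻¹
          = r * (s * t * s⁻¹ * t⁻¹) * (t * r⁻¹ * t⁻¹) := by group
        _ = s * t * s⁻¹ * t⁻¹ * r * (t * r⁻¹ * t⁻¹) := by rw [← hce]
        _ = s * t * s⁻¹ * t⁻¹ * (r * t * r⁻¹ * t⁻¹) := by group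
    rw [e, ← h1, ← h2, ← zp_add, cz_zp]
  have cm_swap : ∀ r ∈ R, ∀ s ∈ R, cm s r = -cm r s := by
    intro r hr s hs
    show cz _ = -cz _
    rw [show s * r * s⁻¹ * r⁻¹ = (r * s * r⁻¹ * s⁻¹)⁻¹ by group]
    conv_lhs => rw [← zp_cz _ (hcommZ r hr s hs), ← zp_neg, cz_zp]
  have cm_mul_right : ∀ r ∈ R, ∀ s ∈ R, ∀ t ∈ R, cm t (r * s) = cm t r + cm t s := by
    intro r hr s hs t ht
    rw [cm_swap _ (mul_mem hr hs) t ht, cm_mul_left r hr s hs t ht, cm_swap r hr t ht, cm_swap s hs t ht]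
    ring
  have cm_ab : cm a b = 1 := by
    show cz c₀ = 1
    rw [← zp1, cz_zp]
  have cm_self : ∀ r, cm r r = 0 := fun r => by
    show cz _ = 0
    rw [mul_inv_cancel_right, mul_inv_cancel, ← zp0, cz_zp]
  have cm_zero : ∀ r ∈ R, ∀ s ∈ R, cm r s = 0 → r * s = s * r := by
    intro r hr s hs h
    have := zp_cz _ (hcommZ r hr s hs)
    rw [show cz (r * s * r⁻¹ * s⁻¹) = 0 from h, zp0] at this
    have h2 := this.symm
    rw [mul_inv_eq_one, mul_inv_eq_iff_eq_mul] at h2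
    exact h2
  -- coordinates
  let π : X → V2 := fun r => (cm r b, cm a r)
  have π_mul : ∀ r ∈ R, ∀ s ∈ R, π (r * s) = π r + π s := fun r hr s hs =>
    Prod.ext (cm_mul_left r hr s hs b hbR) (cm_mul_right r hr s hs a haR)
  let πh : R →* Multiplicative V2 :=
    { toFun := fun r => Multiplicative.ofAdd (π r)
      map_one' := by
        show Multiplicative.ofAdd (π ((1 : R) : X)) = 1
        have h := π_mul 1 (one_mem _) 1 (one_mem _)
        rw [mul_one, left_eq_add] at h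
        rw [Subgroup.coe_one, h]
        rfl
      map_mul' := fun r s => by rw [Subgroup.coe_mul, π_mul r r.2 s s.2]; rfl }
  have π_one : π 1 = 0 := by
    have h := π_mul 1 (one_mem _) 1 (one_mem _)
    rwa [mul_one, left_eq_add] at h
  have π_inv : ∀ r ∈ R, π r⁻¹ = -π r := fun r hr => by
    rw [eq_neg_iff_add_eq_zero, ← π_mul _ (inv_mem hr) r hr, inv_mul_cancel, π_one]
  have π_pow : ∀ r ∈ R, ∀ n : ℕ, π (r ^ n) = n • π r := by
    intro r hr n
    induction n with
    | zero => rw [pow_zero, π_one, zero_smul]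
    | succ n ih => rw [pow_succ, π_mul _ (pow_mem hr n) r hr, ih, succ_nsmul]
  have π_a : π a = (1, 0) := Prod.ext cm_ab (cm_self a)
  have π_b : π b = (0, 1) := Prod.ext (cm_self b) cm_ab
  have π_Z : ∀ z ∈ Z, π z = 0 := by
    intro z hz
    have h1 : ∀ s ∈ R, z * s * z⁻¹ * s⁻¹ = 1 := fun s hs => by
      rw [(memZ.1 hz).2 s hs, mul_inv_cancel_right, mul_inv_cancel]
    refine Prod.ext ?_ ?_
    · show cz _ = 0
      rw [h1 b hbR, ← zp0, cz_zp]
    · show cm a z = 0
      rw [cm_swap z (hZR hz) a haR, show cm z a = cz _ from rfl, h1 a haR, ← zp0, cz_zp, neg_zero]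
  have π_surj : ∀ v : V2, ∃ r ∈ R, π r = v := fun v =>
    ⟨a ^ v.1.val * b ^ v.2.val, mul_mem (pow_mem haR _) (pow_mem hbR _), by
      rw [π_mul _ (pow_mem haR _) _ (pow_mem hbR _), π_pow a haR, π_pow b hbR, π_a, π_b]
      exact Prod.ext (by simp) (by simp)⟩
  have π_ker : ∀ r ∈ R, π r = 0 → r ∈ Z := by
    have hle : Subgroup.center R ≤ πh.ker := fun z hz => by
      rw [MonoidHom.mem_ker]
      show Multiplicative.ofAdd (π z) = 1
      rw [π_Z (z : X) ⟨z, hz, rfl⟩]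
      rfl
    have heq : Subgroup.center R = πh.ker := by
      refine Subgroup.eq_of_le_of_card_ge hle ?_
      have h := Subgroup.card_mul_index πh.ker
      have hs : Function.Surjective πh := fun v => by
        obtain ⟨r, hr, e⟩ := π_surj (Multiplicative.toAdd v)
        exact ⟨⟨r, hr⟩, by show Multiplicative.ofAdd (π r) = v; rw [e]; rfl⟩
      rw [Subgroup.index_ker, MonoidHom.range_eq_top.2 hs, Subgroup.card_top, S.card_R,
        show Nat.card (Multiplicative V2) = 9 by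
          rw [Nat.card_eq_fintype_card]; rfl] at h
      rw [S.card_center]
      omega
    intro r hr h
    refine ⟨⟨r, hr⟩, ?_, rfl⟩
    rw [SetLike.mem_coe, heq, MonoidHom.mem_ker]
    show Multiplicative.ofAdd (π r) = 1
    rw [h]
    rfl
  have π_fib : ∀ r ∈ R, ∀ s ∈ R, π r = π s → r⁻¹ * s ∈ Z := fun r hr s hs h =>
    π_ker _ (mul_mem (inv_mem hr) hs) (by rw [π_mul _ (inv_mem hr) s hs, π_inv r hr, h, neg_add_cancel])
  have cm_det : ∀ r ∈ R, ∀ s ∈ R, cm r s = det2 (π r) (π s) := by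
    intro r hr s hs
    have hp : ∀ (n : ℕ) (x : X), x ∈ R → cm (x ^ n) s = (n : ZMod 3) * cm x s := by
      intro n x hx
      induction n with
      | zero =>
        rw [pow_zero, Nat.cast_zero, zero_mul]
        show cz _ = 0
        rw [one_mul, inv_one, mul_one, mul_inv_cancel, ← zp0, cz_zp]
      | succ n ih => rw [pow_succ, cm_mul_left _ (pow_mem hx n) x hx s hs, ih]; push_cast; ring
    set r' := a ^ (π r).1.val * b ^ (π r).2.val with hr'
    have hr'R : r' ∈ R := mul_mem (pow_mem haR _) (pow_mem hbR _)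
    have hπ : π r' = π r := by
      rw [hr', π_mul _ (pow_mem haR _) _ (pow_mem hbR _), π_pow a haR, π_pow b hbR, π_a, π_b]
      exact Prod.ext (by simp) (by simp)
    have hz := π_fib r' hr'R r hr hπ
    have hzs : cm (r'⁻¹ * r) s = 0 := by
      show cz _ = 0
      rw [(memZ.1 hz).2 s hs, mul_inv_cancel_right, mul_inv_cancel, ← zp0, cz_zp]
    calc cm r s = cm (r' * (r'⁻¹ * r)) s := by rw [mul_inv_cancel_left]
      _ = cm r' s := by rw [cm_mul_left r' hr'R _ (hZR hz) s hs, hzs, add_zero]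
      _ = (π r).1 * cm a s + (π r).2 * cm b s := by
        rw [hr', cm_mul_left _ (pow_mem haR _) _ (pow_mem hbR _) s hs, hp _ a haR, hp _ b hbR,
          ZMod.natCast_zmod_val, ZMod.natCast_zmod_val]
      _ = det2 (π r) (π s) := by
        rw [cm_swap s hs b hbR]
        show _ = (π r).1 * cm a s - (π r).2 * cm s b
        ring
  -- the centre of `R` is central
  have hcent : ∀ x : X, ∀ z ∈ Z, x * z = z * x := by
    have h3 : ∀ x : X, S.q x ^ 3 = 1 → x * c₀ = c₀ * x := by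
      intro x hx
      have hx3 : x ^ 3 ∈ R := (S.q_ker _).1 (by rw [map_pow, hx])
      have hc := (memZ.1 hc₀Z).2 _ hx3
      obtain ⟨i, hi⟩ : ∃ i, zp i = x * c₀ * x⁻¹ := by
        refine zp_surj _ (memZ.2 ⟨S.normal.conj_mem _ (hZR hc₀Z) x, fun r hr => ?_⟩)
        have := (memZ.1 hc₀Z).2 (x⁻¹ * r * x⁻¹⁻¹) (S.normal.conj_mem r hr x⁻¹)
        calc x * c₀ * x⁻¹ * r = x * (c₀ * (x⁻¹ * r * x⁻¹⁻¹)) * x⁻¹ := by group
          _ = x * (x⁻¹ * r * x⁻¹⁻¹ * c₀) * x⁻¹ := by rw [this]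
          _ = r * (x * c₀ * x⁻¹) := by group
      rcases zmod_cases i with rfl | rfl | rfl
      · rw [zp0] at hi
        exact absurd (conj_eq_one_iff.1 hi.symm) hc₀1
      · rw [zp1] at hi
        rw [eq_comm, mul_inv_eq_iff_eq_mul] at hi
        exact hi
      · exfalso
        rw [zp_neg, zp1] at hi
        have e1 : x * c₀ * x⁻¹ = c₀⁻¹ := hi.symm
        have e2 : x ^ 3 * c₀ * (x ^ 3)⁻¹ = c₀⁻¹ := by
          rw [show x ^ 3 * c₀ * (x ^ 3)⁻¹ = x * (x * (x * c₀ * x⁻¹) * x⁻¹) * x⁻¹ by simp [pow_succ, mul_assoc], e1,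
            show x * c₀⁻¹ * x⁻¹ = (x * c₀ * x⁻¹)⁻¹ by group, e1, inv_inv, e1]
        rw [← hc, mul_inv_cancel_right] at e2
        have : c₀ ^ 2 = 1 := by rw [pow_two]; nth_rewrite 2 [e2]; rw [mul_inv_cancel]
        have := orderOf_dvd_of_pow_eq_one this
        rw [ho] at this
        norm_num at this
    have hall : ∀ x : X, x ∈ Subgroup.centralizer {c₀} := by
      intro x
      obtain ⟨B, C, hB, hC, hA⟩ := sl_generated (S.q x)
      obtain ⟨y, rfl⟩ := S.q_surj B
      obtain ⟨w, rfl⟩ := S.q_surj C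
      have hy : y ∈ Subgroup.centralizer {c₀} := Subgroup.mem_centralizer_singleton_iff.2 (h3 y hB)
      have hw : w ∈ Subgroup.centralizer {c₀} := Subgroup.mem_centralizer_singleton_iff.2 (h3 w hC)
      have hRc : ∀ r ∈ R, r ∈ Subgroup.centralizer {c₀} := fun r hr =>
        Subgroup.mem_centralizer_singleton_iff.2 ((memZ.1 hc₀Z).2 r hr).symm
      rcases hA with h | h
      · have : (y * w)⁻¹ * x ∈ R := (S.q_ker _).1 (by rw [map_mul, map_inv, map_mul, h, inv_mul_cancel])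
        have := mul_mem (mul_mem hy hw) (hRc _ this)
        rwa [mul_inv_cancel_left] at this
      · have : ((y * w) ^ 2)⁻¹ * x ∈ R :=
          (S.q_ker _).1 (by rw [map_mul, map_inv, map_pow, map_mul, h, inv_mul_cancel])
        have := mul_mem (pow_mem (mul_mem hy hw) 2) (hRc _ this)
        rwa [mul_inv_cancel_left] at this
    intro x z hz
    obtain ⟨i, rfl⟩ := zp_surj z hz
    exact ((show Commute x c₀ from Subgroup.mem_centralizer_singleton_iff.1 (hall x)).pow_right _).eq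
  have zpc : ∀ (x : X) (i : ZMod 3), x * zp i = zp i * x := fun x i => hcent x _ (zp_mem i)
  -- the action on the coordinates
  let M : X → M22 := fun g => !![(π (g⁻¹ * a * g)).1, (π (g⁻¹ * a * g)).2;
    (π (g⁻¹ * b * g)).1, (π (g⁻¹ * b * g)).2]
  have conjR : ∀ (g : X), ∀ r ∈ R, g⁻¹ * r * g ∈ R := fun g r hr => by
    have := S.normal.conj_mem r hr g⁻¹
    rwa [inv_inv] at this
  have hM : ∀ (g : X), ∀ r ∈ R, π (g⁻¹ * r * g) = rmul (π r) (M g) := by
    intro g r hr
    set r' := a ^ (π r).1.val * b ^ (π r).2.val with hr'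
    have hr'R : r' ∈ R := mul_mem (pow_mem haR _) (pow_mem hbR _)
    have hπ : π r' = π r := by
      rw [hr', π_mul _ (pow_mem haR _) _ (pow_mem hbR _), π_pow a haR, π_pow b hbR, π_a, π_b]
      exact Prod.ext (by simp) (by simp)
    have hz := π_fib r' hr'R r hr hπ
    have e : g⁻¹ * r * g = (g⁻¹ * a * g) ^ (π r).1.val * (g⁻¹ * b * g) ^ (π r).2.val * (r'⁻¹ * r) := by
      have ea : (g⁻¹ * a * g) ^ (π r).1.val = g⁻¹ * a ^ (π r).1.val * g := by
        have := conj_pow (a := g⁻¹) (b := a) (i := (π r).1.val)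
        rwa [inv_inv] at this
      have eb : (g⁻¹ * b * g) ^ (π r).2.val = g⁻¹ * b ^ (π r).2.val * g := by
        have := conj_pow (a := g⁻¹) (b := b) (i := (π r).2.val)
        rwa [inv_inv] at this
      rw [ea, eb]
      conv_rhs => rw [show g⁻¹ * a ^ (π r).1.val * g * (g⁻¹ * b ^ (π r).2.val * g) * (r'⁻¹ * r) =
        g⁻¹ * r' * (g * (r'⁻¹ * r)) by rw [hr']; group, hcent g _ hz]
      group
    rw [e, π_mul _ (mul_mem (pow_mem (conjR g a haR) _) (pow_mem (conjR g b hbR) _)) _ (hZR hz),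
      π_mul _ (pow_mem (conjR g a haR) _) _ (pow_mem (conjR g b hbR) _), π_pow _ (conjR g a haR),
      π_pow _ (conjR g b hbR), π_Z _ hz, add_zero]
    refine Prod.ext ?_ ?_ <;>
      simp [rmul, M, Matrix.cons_val_one, nsmul_eq_mul]
  have Mdet : ∀ g : X, (M g).det = 1 := by
    intro g
    have h1 : cm (g⁻¹ * a * g) (g⁻¹ * b * g) = 1 := by
      show cz _ = 1
      rw [show g⁻¹ * a * g * (g⁻¹ * b * g) * (g⁻¹ * a * g)⁻¹ * (g⁻¹ * b * g)⁻¹ = g⁻¹ * c₀ * g by
        rw [hc₀]; group, mul_assoc, ← hcent g c₀ hc₀Z, inv_mul_cancel_left, ← zp1, cz_zp]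
    rw [cm_det _ (conjR g a haR) _ (conjR g b hbR)] at h1
    rw [Matrix.det_fin_two]
    exact h1
  have Mmul : ∀ g h : X, M (g * h) = M g * M h := by
    intro g h
    have e : ∀ c : X, c ∈ R → π ((g * h)⁻¹ * c * (g * h)) = rmul (π (g⁻¹ * c * g)) (M h) := fun c hc => by
      rw [show (g * h)⁻¹ * c * (g * h) = h⁻¹ * (g⁻¹ * c * g) * h by group, hM h _ (conjR g c hc)]
    ext i j
    rw [Matrix.mul_apply, Fin.sum_univ_two]
    fin_cases i <;> fin_cases j
    · exact congrArg Prod.fst (e a haR)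
    · exact congrArg Prod.snd (e a haR)
    · exact congrArg Prod.fst (e b hbR)
    · exact congrArg Prod.snd (e b hbR)
  let ψ : X →* SL := MonoidHom.mk' (fun g => ⟨M g, Mdet g⟩) fun g h => Subtype.ext (Mmul g h)
  have hψM : ∀ g, ((ψ g : SL) : M22) = M g := fun g => rfl
  have ψR : ∀ r ∈ R, ψ r = 1 := by
    intro r hr
    have e : ∀ c ∈ R, π (r⁻¹ * c * r) = π c := fun c hc => by
      rw [π_mul _ (mul_mem (inv_mem hr) hc) r hr, π_mul _ (inv_mem hr) c hc, π_inv r hr]
      abel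
    apply Subtype.ext
    show M r = 1
    ext i j
    fin_cases i <;> fin_cases j <;> simp [M, e a haR, e b hbR, π_a, π_b]
  have ψker : ∀ x, ψ x = 1 → x ∈ R := by
    intro x hx
    have hx' : M x⁻¹ = 1 := by rw [← hψM, map_inv, hx, inv_one]; rfl
    have e : ∀ c ∈ R, π (x * c * x⁻¹) = π c := fun c hc => by
      have := hM x⁻¹ c hc
      rw [inv_inv, hx'] at this
      rw [this]
      simp [rmul]
    obtain ⟨i, hi⟩ := zp_surj _ (π_fib a haR _ (S.normal.conj_mem a haR x) (e a haR).symm)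
    obtain ⟨j, hj⟩ := zp_surj _ (π_fib b hbR _ (S.normal.conj_mem b hbR x) (e b hbR).symm)
    obtain ⟨s, hs, hπs⟩ := π_surj (j, -i)
    have hconj : ∀ c ∈ R, s * c * s⁻¹ = c * zp (cm s c) := fun c hc => by
      rw [zpc c, zp_cz _ (hcommZ s hs c hc)]
      group
    have hwa : ∀ c ∈ R, ∀ k, x * c * x⁻¹ = c * zp k → cm s c = k → Commute (s⁻¹ * x) c := by
      intro c hc k h1 h2
      have e1 : x * c * x⁻¹ = s * c * s⁻¹ := by rw [hconj c hc, h2, h1]
      show s⁻¹ * x * c = c * (s⁻¹ * x)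
      calc s⁻¹ * x * c = s⁻¹ * (x * c * x⁻¹) * x := by group
        _ = s⁻¹ * (s * c * s⁻¹) * x := by rw [e1]
        _ = c * (s⁻¹ * x) := by group
    have hA : Commute (s⁻¹ * x) a := hwa a haR i (by rw [hi]; group) (by
      rw [cm_det s hs a haR, hπs, π_a]; simp [det2])
    have hB : Commute (s⁻¹ * x) b := hwa b hbR j (by rw [hj]; group) (by
      rw [cm_det s hs b hbR, hπs, π_b]; simp [det2])
    set w := s⁻¹ * x with hw
    have hwR : ∀ r ∈ R, w * r = r * w := by
      intro r hr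
      set r' := a ^ (π r).1.val * b ^ (π r).2.val with hr'
      have hr'R : r' ∈ R := mul_mem (pow_mem haR _) (pow_mem hbR _)
      have hπ : π r' = π r := by
        rw [hr', π_mul _ (pow_mem haR _) _ (pow_mem hbR _), π_pow a haR, π_pow b hbR, π_a, π_b]
        exact Prod.ext (by simp) (by simp)
      have h1 : Commute w r' := (hA.pow_right _).mul_right (hB.pow_right _)
      have h2 : Commute w (r'⁻¹ * r) := hcent w _ (π_fib r' hr'R r hr hπ)
      have := (h1.mul_right h2).eq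
      rwa [mul_inv_cancel_left] at this
    by_contra hxR
    have hwR' : w ∉ R := fun h => hxR (by
      have := mul_mem hs h
      rwa [hw, mul_inv_cancel_left] at this)
    -- an involution over `-1` centralising `R`
    set W := Subgroup.centralizer (R : Set X) with hW
    have hwW : w ∈ W := Subgroup.mem_centralizer_iff.2 fun r hr => (hwR r hr).symm
    obtain ⟨g, hgW, hg⟩ : ∃ g ∈ W, S.q g = -1 := by
      have hA1 : S.q w ≠ 1 := fun h => hwR' ((S.q_ker _).1 h)
      rcases sl_neg_one_of_normal _ hA1 with h | h | h | ⟨B, h⟩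
      · exact ⟨w, hwW, h⟩
      · exact ⟨w ^ 2, pow_mem hwW 2, by rw [map_pow, h]⟩
      · exact ⟨w ^ 3, pow_mem hwW 3, by rw [map_pow, h]⟩
      · obtain ⟨y, rfl⟩ := S.q_surj B
        exact ⟨(y * w * y⁻¹ * w⁻¹) ^ 2, pow_mem (mul_mem
          ((inferInstance : W.Normal).conj_mem w hwW y) (inv_mem hwW)) 2,
          by rw [map_pow, map_mul, map_mul, map_mul, map_inv, map_inv, h]⟩
    have hm1 : (-1 : SL) * -1 = 1 := by decide +kernel
    have hg2 : g ^ 2 ∈ R := (S.q_ker _).1 (by rw [map_pow, hg, pow_two, hm1])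
    have hqv : S.q (g ^ 3) = -1 := by rw [map_pow, hg]; decide +kernel
    have hv2 : (g ^ 3) ^ 2 = 1 := by rw [← pow_mul, show 3 * 2 = 2 * 3 from rfl, pow_mul, S.exp _ hg2]
    have hvc : ∀ y : X, y * g ^ 3 = g ^ 3 * y := by
      intro y
      set v := g ^ 3 with hv
      have hvW : v ∈ W := pow_mem hgW 3
      have hdR : y * v * y⁻¹ * v⁻¹ ∈ R := by
        refine (S.q_ker _).1 ?_
        rw [map_mul, map_mul, map_mul, map_inv, map_inv, hqv]
        exact sl_comm_neg _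
      have hdW : y * v * y⁻¹ * v⁻¹ ∈ W :=
        mul_mem ((inferInstance : W.Normal).conj_mem v hvW y) (inv_mem hvW)
      have hdZ : y * v * y⁻¹ * v⁻¹ ∈ Z :=
        memZ.2 ⟨hdR, fun r hr => (Subgroup.mem_centralizer_iff.1 hdW r hr).symm⟩
      set d := y * v * y⁻¹ * v⁻¹ with hd
      have hdv : y * v * y⁻¹ = d * v := by rw [hd, inv_mul_cancel_right]
      have h1 : (d * v) ^ 2 = 1 := by rw [← hdv, conj_pow, hv2, mul_one, mul_inv_cancel]
      have hcd : Commute d v := (hcent v d hdZ).symm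
      rw [hcd.mul_pow, hv2, mul_one] at h1
      have hd1 : d = 1 := by
        have h3 := S.exp d hdR
        rwa [pow_succ, h1, one_mul] at h3
      rw [hd1, one_mul, mul_inv_eq_iff_eq_mul] at hdv
      exact hdv
    have := S.no_inv _ hv2 hvc
    rw [this, map_one] at hqv
    exact absurd hqv (by decide +kernel)
  have ψsurj : Function.Surjective ψ := by
    rw [← MonoidHom.range_eq_top]
    apply Subgroup.eq_top_of_card_eq
    have hk : ψ.ker = R := le_antisymm (fun x hx => ψker x hx) fun r hr => ψR r hr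
    have h := Subgroup.card_mul_index ψ.ker
    rw [Subgroup.index_ker, hk, S.card_R, S.card_X] at h
    rw [card_sl]
    omega
  -- the involution
  obtain ⟨g₀, hg₀⟩ := ψsurj (-1)
  set τ := g₀ ^ 3 with hτ
  have hψτ : ψ τ = -1 := by rw [hτ, map_pow, hg₀]; decide +kernel
  have hτ2 : τ * τ = 1 := by
    have : g₀ ^ 2 ∈ R := ψker _ (by rw [map_pow, hg₀]; decide +kernel)
    rw [hτ, ← pow_add, show 3 + 3 = 2 * 3 from rfl, pow_mul, S.exp _ this]
  have hτi : τ⁻¹ = τ := inv_eq_of_mul_eq_one_right hτ2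
  have hτR : ∀ r ∈ R, τ * r * τ ∈ R := fun r hr => by
    have := S.normal.conj_mem r hr τ
    rwa [hτi] at this
  have πτ : ∀ r ∈ R, π (τ * r * τ) = -π r := by
    intro r hr
    have h := hM τ r hr
    rw [hτi] at h
    rw [h, ← hψM, hψτ]
    refine Prod.ext ?_ ?_ <;> simp [rmul]
  set N : Subgroup X := Subgroup.centralizer {τ} with hN
  have memN : ∀ {x : X}, x ∈ N ↔ x * τ = τ * x := Subgroup.mem_centralizer_singleton_iff
  have hNR : ∀ r ∈ R, r ∈ N → r ∈ Z := by
    intro r hr hn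
    refine π_ker r hr ?_
    have h := πτ r hr
    rw [← memN.1 hn, mul_assoc, hτ2, mul_one] at h
    exact v2_eq_neg _ h
  have hlift : ∀ A : SL, ∃ x ∈ N, ψ x = A := by
    intro A
    obtain ⟨x, rfl⟩ := ψsurj A
    set d := x * τ * x⁻¹ * τ with hd
    have hdR : d ∈ R := by
      refine ψker _ ?_
      rw [hd, map_mul, map_mul, map_mul, map_inv, hψτ]
      exact sl_comm_neg' _
    have hdinv : τ * d * τ = d⁻¹ := by
      rw [hd, _root_.mul_inv_rev, _root_.mul_inv_rev, _root_.mul_inv_rev, inv_inv, hτi]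
      simp only [mul_assoc]
      rw [hτ2, mul_one]
    set s := d ^ 2 with hs
    have hτs : τ * s⁻¹ * τ = s := by
      have h2 : τ * s * τ = s⁻¹ := by
        rw [hs, pow_two, _root_.mul_inv_rev, ← hdinv]
        simp only [mul_assoc]
        rw [← mul_assoc τ τ (d * τ), hτ2, one_mul]
      rw [← h2]
      simp only [← mul_assoc]
      rw [hτ2, one_mul, mul_assoc, hτ2, mul_one]
    refine ⟨s⁻¹ * x, memN.2 ?_, by rw [map_mul, map_inv, ψR s (pow_mem hdR 2), inv_one, one_mul]⟩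
    have e1 : s * τ * s⁻¹ = d * τ := by
      calc s * τ * s⁻¹ = s * (τ * s⁻¹ * τ) * τ := by
            simp only [mul_assoc]; rw [hτ2, mul_one]
        _ = d * τ := by
            rw [hτs, hs, ← pow_add, show d ^ (2 + 2) = d ^ 3 * d from pow_succ d 3, S.exp d hdR, one_mul]
    have e2 : d * τ = x * τ * x⁻¹ := by
      rw [hd]; simp only [mul_assoc]; rw [hτ2, mul_one]
    calc s⁻¹ * x * τ = s⁻¹ * (x * τ * x⁻¹) * x := by group
      _ = s⁻¹ * (s * τ * s⁻¹) * x := by rw [← e2, e1]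
      _ = τ * (s⁻¹ * x) := by group
  -- the Sylow 2-subgroup of `N`
  let ψN : N →* SL := ψ.comp N.subtype
  have hψN : Function.Surjective ψN := fun A => by
    obtain ⟨x, hx, e⟩ := hlift A
    exact ⟨⟨x, hx⟩, e⟩
  have hkN : ψN.ker.map N.subtype = Z := by
    ext x
    constructor
    · rintro ⟨y, hy, rfl⟩
      exact hNR _ (ψker _ hy) y.2
    · intro hx
      exact ⟨⟨x, memN.2 (hcent τ x hx).symm⟩, ψR x (hZR hx), rfl⟩
  have hNc : Nat.card N = 72 := by
    rw [← Subgroup.card_mul_index ψN.ker, Subgroup.index_ker, MonoidHom.range_eq_top.2 hψN,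
      Subgroup.card_top, card_sl, ← Subgroup.card_map_of_injective N.subtype_injective, hkN, hZcard]
  haveI : Fact (Nat.Prime 2) := ⟨Nat.prime_two⟩
  obtain ⟨P0⟩ : Nonempty (Sylow 2 N) := Sylow.nonempty
  set P : Subgroup X := (P0 : Subgroup N).map N.subtype with hP
  have hPc : Nat.card P = 8 := by
    rw [hP, Subgroup.card_map_of_injective N.subtype_injective, P0.card_eq_multiplicity, hNc]
    have : Nat.factorization 72 2 = 3 := by
      rw [Nat.factorization_def _ Nat.prime_two, show (72 : ℕ) = 2 ^ 3 * 9 by norm_num,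
        padicValNat.mul (by norm_num) (by norm_num), padicValNat.prime_pow,
        padicValNat.eq_zero_of_not_dvd (by norm_num)]
    rw [this]
    norm_num
  have hPN : P ≤ N := Subgroup.map_subtype_le _
  have hP8 : ∀ x ∈ P, x ^ 8 = 1 := fun x hx => by
    have := orderOf_dvd_natCard (⟨x, hx⟩ : P)
    rw [hPc, Subgroup.orderOf_mk] at this
    exact orderOf_dvd_iff_pow_eq_one.1 this
  have hPZ : ∀ x ∈ P, ψ x = 1 → x = 1 := fun x hx h => by
    have h3 := S.exp x (ψker x h)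
    have h8 := hP8 x hx
    rw [show (8 : ℕ) = 3 * 3 - 1 from rfl] at h8
    have : x ^ 9 = 1 := by rw [show (9 : ℕ) = 3 * 3 from rfl, pow_mul, h3, one_pow]
    calc x = x ^ 9 * (x ^ 8)⁻¹ := by group
      _ = 1 := by rw [this, h8, inv_one, one_mul]
  have hP4 : ∀ x ∈ P, x ^ 4 = 1 := fun x hx =>
    hPZ _ (pow_mem hx 4) (by rw [map_pow]; exact sl_eight _ (by rw [← map_pow, hP8 x hx, map_one]))
  have hPall : ∀ A : SL, A ^ 4 = 1 → ∃ x ∈ P, ψ x = A := by
    intro A hA
    let f : P → {A : SL // A ^ 4 = 1} := fun x => ⟨ψ x, by rw [← map_pow, hP4 x x.2, map_one]⟩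
    have hf : Function.Bijective f := by
      rw [Nat.bijective_iff_injective_and_card]
      refine ⟨fun x y h => ?_, by rw [hPc, Nat.card_eq_fintype_card, sl_card_four]⟩
      have h' : ψ x = ψ y := congrArg Subtype.val h
      have := hPZ _ (x⁻¹ * y).2 (by rw [Subgroup.coe_mul, Subgroup.coe_inv, map_mul, map_inv, h',
        inv_mul_cancel])
      exact inv_mul_eq_one.1 (Subtype.ext this)
    obtain ⟨x, hx⟩ := hf.2 ⟨A, hA⟩
    exact ⟨x, x.2, congrArg Subtype.val hx⟩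
  have hPchar : ∀ x ∈ N, x ^ 4 = 1 → x ∈ P := by
    intro x hxN hx
    obtain ⟨y, hy, e⟩ := hPall (ψ x) (by rw [← map_pow, hx, map_one])
    have hz : y⁻¹ * x ∈ Z := hNR _ (ψker _ (by rw [map_mul, map_inv, e, inv_mul_cancel]))
      (mul_mem (inv_mem (hPN hy)) hxN)
    have h4 : (y⁻¹ * x) ^ 4 = 1 := by
      have hc : Commute y (y⁻¹ * x) := hcent y _ hz
      have := hc.mul_pow 4
      rw [mul_inv_cancel_left, hx, hP4 y hy, one_mul] at this
      exact this.symm
    have h3 := S.exp _ (hZR hz)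
    have : y⁻¹ * x = 1 := by rw [pow_succ, h3, one_mul] at h4; exact h4
    rw [inv_mul_eq_one] at this
    exact this ▸ hy
  -- an element of order three
  obtain ⟨E, hEc, hE3, hE27⟩ := hE
  obtain ⟨e, heE, heR⟩ : ∃ e ∈ E, e ∉ R := by
    by_contra h
    push Not at h
    have hER : E = R := Subgroup.eq_of_le_of_card_ge h (by rw [hE27, S.card_R])
    exact hab (congrArg Subtype.val
      (hEc.is_comm.comm (⟨a, hER ▸ haR⟩ : E) ⟨b, hER ▸ hbR⟩))
  have hEcomm : ∀ x ∈ E, ∀ y ∈ E, x * y = y * x := fun x hx y hy =>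
    congrArg Subtype.val (hEc.is_comm.comm (⟨x, hx⟩ : E) ⟨y, hy⟩)
  obtain ⟨a₁, ha₁E, ha₁R, ha₁Z⟩ : ∃ a₁, a₁ ∈ E ∧ a₁ ∈ R ∧ π a₁ ≠ 0 := by
    by_contra h
    push Not at h
    let f : E →* SL := ψ.comp E.subtype
    have hle : f.ker.map E.subtype ≤ Z := by
      rintro _ ⟨y, hy, rfl⟩
      exact π_ker _ (ψker _ hy) (h y y.2 (ψker _ hy))
    have h1 := Subgroup.card_dvd_of_le hle
    rw [Subgroup.card_map_of_injective E.subtype_injective, hZcard] at h1
    have h2 := Subgroup.card_mul_index f.ker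
    rw [Subgroup.index_ker, hE27] at h2
    have h3 : Nat.card f.range ∣ 24 := card_sl ▸ Subgroup.card_subgroup_dvd_card _
    have h4 : Nat.card f.range ∣ 27 := h2 ▸ Dvd.intro_left _ rfl
    have h5 := Nat.dvd_gcd h3 h4
    rw [show Nat.gcd 24 27 = 3 by rfl] at h5
    have h6 := Nat.le_of_dvd (by norm_num) h5
    have h7 := Nat.le_of_dvd (by norm_num) h1
    nlinarith
  obtain ⟨n, hnN, hn⟩ := hlift (ψ e)
  have hna : n * a₁ = a₁ * n := by
    have hconj := S.normal.conj_mem a₁ ha₁R n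
    have hψ : π (n * a₁ * n⁻¹) = π a₁ := by
      have h1 := hM n⁻¹ a₁ ha₁R
      have h2 := hM e⁻¹ a₁ ha₁R
      rw [inv_inv, ← hψM, map_inv] at h1 h2
      rw [h1, hn, ← h2, hEcomm e heE a₁ ha₁E, mul_inv_cancel_right]
    obtain ⟨i, hi⟩ := zp_surj _ (π_fib a₁ ha₁R _ hconj hψ.symm)
    have e1 : n * a₁ * n⁻¹ = a₁ * zp i := by rw [hi]; group
    obtain ⟨j, hj⟩ := zp_surj _ (π_fib a₁⁻¹ (inv_mem ha₁R) _ (hτR a₁ ha₁R)
      (by rw [π_inv _ ha₁R, πτ a₁ ha₁R]))
    have e2 : τ * a₁ * τ = a₁⁻¹ * zp j := by rw [hj, inv_inv, inv_mul_cancel_left]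
    have hnτ := memN.1 hnN
    have e3 : n * (τ * a₁ * τ) * n⁻¹ = τ * (n * a₁ * n⁻¹) * τ := by
      have hn' : τ * n⁻¹ = n⁻¹ * τ := by
        rw [eq_comm, inv_mul_eq_iff_eq_mul, ← mul_assoc, hnτ, mul_inv_cancel_right]
      calc n * (τ * a₁ * τ) * n⁻¹ = (n * τ) * a₁ * (τ * n⁻¹) := by group
        _ = τ * (n * a₁ * n⁻¹) * τ := by rw [hnτ, hn']; group
    rw [e1, e2] at e3
    have e4 : n * (a₁⁻¹ * zp j) * n⁻¹ = (n * a₁ * n⁻¹)⁻¹ * zp j := by
      rw [← mul_assoc, mul_assoc (n * a₁⁻¹), ← zpc n⁻¹]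
      group
    rw [e4, e1, _root_.mul_inv_rev, ← zp_neg, ← mul_assoc τ a₁, mul_assoc (τ * a₁), ← zpc τ i,
      ← mul_assoc (τ * a₁), e2, ← zpc a₁⁻¹, mul_assoc, mul_assoc, mul_left_cancel_iff,
      ← zp_add, ← zp_add] at e3
    have hi0 : i = 0 := by
      have := zp_inj e3
      exact zmod_shift i j this
    rw [hi0, zp0, mul_one, mul_inv_eq_iff_eq_mul] at e1
    exact e1
  set r := e⁻¹ * n with hr
  have hrR : r ∈ R := ψker _ (by rw [hr, map_mul, map_inv, hn, inv_mul_cancel])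
  have hre : Commute e r := by
    have h1 : r * a₁ = a₁ * r := by
      have h2 : e⁻¹ * a₁ = a₁ * e⁻¹ := by
        rw [inv_mul_eq_iff_eq_mul, ← mul_assoc, hEcomm e heE a₁ ha₁E, mul_inv_cancel_right]
      rw [hr, mul_assoc, hna, ← mul_assoc, h2, mul_assoc]
    have h2 : det2 (π a₁) (π r) = 0 := by
      rw [← cm_det a₁ ha₁R r hrR]
      show cz _ = 0
      rw [← h1, mul_inv_cancel_right, mul_inv_cancel, ← zp0, cz_zp]
    obtain ⟨k, hk⟩ := det2_eq_zero _ _ ha₁Z h2
    have hz := π_fib (a₁ ^ k) (pow_mem ha₁R k) r hrR (by rw [π_pow _ ha₁R, hk])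
    have h3 : Commute e (a₁ ^ k) := (show Commute e a₁ from hEcomm e heE a₁ ha₁E).pow_right k
    have h4 : Commute e ((a₁ ^ k)⁻¹ * r) := hcent e _ hz
    have := h3.mul_right h4
    rwa [mul_inv_cancel_left] at this
  have hn3 : n ^ 3 = 1 := by
    rw [show n = e * r by rw [hr, mul_inv_cancel_left], hre.mul_pow, hE3 e heE, S.exp r hrR, one_mul]
  have hψn : ψ n ≠ 1 := fun h => heR (ψker e (hn ▸ h))
  -- the complement
  have hnorm : Subgroup.zpowers n ≤ Subgroup.normalizer (P : Set X) := by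
    rw [Subgroup.zpowers_le, Subgroup.mem_normalizer_iff]
    intro x
    have key : ∀ m ∈ N, ∀ y ∈ P, m * y * m⁻¹ ∈ P := fun m hm y hy =>
      hPchar _ (mul_mem (mul_mem hm (hPN hy)) (inv_mem hm))
        (by rw [conj_pow, hP4 y hy, mul_one, mul_inv_cancel])
    refine ⟨fun hx => key n hnN x hx, fun hx => ?_⟩
    have := key n⁻¹ (inv_mem hnN) _ hx
    rwa [inv_inv, ← mul_assoc, ← mul_assoc, inv_mul_cancel, one_mul, inv_mul_cancel_right] at this
  set K : Subgroup X := Subgroup.zpowers n ⊔ P with hK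
  have hKN : K ≤ N := sup_le (Subgroup.zpowers_le.2 hnN) hPN
  let ψK : K →* SL := ψ.comp K.subtype
  have hKinj : Function.Injective ψK := by
    rw [injective_iff_map_eq_one]
    rintro ⟨k, hk⟩ h1
    have hk' : k ∈ ((Subgroup.zpowers n : Subgroup X) : Set X) * (P : Set X) := by
      rw [← Subgroup.coe_mul_of_left_le_normalizer_right _ _ hnorm]
      exact hk
    obtain ⟨_, hm, s, hs, rfl⟩ := hk'
    obtain ⟨i, rfl⟩ := (mem_powers_iff_mem_zpowers).2 hm
    have h1' : ψ (n ^ i) * ψ s = 1 := by rw [← map_mul]; exact h1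
    have h4 : ψ n ^ i = 1 := by
      have hs4 : ψ s ^ 4 = 1 := by rw [← map_pow, hP4 s hs, map_one]
      rw [mul_eq_one_iff_eq_inv, map_pow] at h1'
      have : (ψ n ^ i) ^ 4 = 1 := by rw [h1', inv_pow, hs4, inv_one]
      rw [pow_succ, ← pow_mul, mul_comm i 3, pow_mul, ← map_pow, hn3, map_one, one_pow, one_mul] at this
      exact this
    have hs1 : s = 1 := hPZ s hs (by rw [map_pow, h4, one_mul] at h1'; exact h1')
    have hni : n ^ i = 1 := by
      rw [pow_eq_pow_mod i hn3]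
      have h5 : ψ n ^ (i % 3) = 1 := by
        rw [← pow_eq_pow_mod i (show ψ n ^ 3 = 1 by rw [← map_pow, hn3, map_one])]
        exact h4
      rcases (show i % 3 = 0 ∨ i % 3 = 1 ∨ i % 3 = 2 by omega) with e' | e' | e' <;> rw [e'] at h5 ⊢
      · exact pow_zero n
      · exact absurd (by rwa [pow_one] at h5) hψn
      · exfalso
        apply hψn
        have h6 : ψ n ^ 3 = 1 := by rw [← map_pow, hn3, map_one]
        rwa [pow_succ, h5, one_mul] at h6
    exact Subtype.ext (by show n ^ i * s = 1; rw [hni, hs1, one_mul])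
  have hKsurj : Function.Surjective ψK := by
    rw [← MonoidHom.range_eq_top]
    apply Subgroup.eq_top_of_card_eq
    have h8 : 8 ∣ Nat.card ψK.range := by
      have hle : P.map ψ ≤ ψK.range := by
        rintro _ ⟨x, hx, rfl⟩
        exact ⟨⟨x, Subgroup.mem_sup_right hx⟩, rfl⟩
      have hc : Nat.card (P.map ψ) = 8 := by
        have hi : Function.Injective (ψ.comp P.subtype) := by
          rw [injective_iff_map_eq_one]
          exact fun x hx => Subtype.ext (hPZ x x.2 hx)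
        have h := Nat.card_congr (MonoidHom.ofInjective hi).toEquiv
        rw [MonoidHom.range_comp, Subgroup.range_subtype, hPc] at h
        exact h.symm
      exact hc ▸ Subgroup.card_dvd_of_le hle
    have h3 : 3 ∣ Nat.card ψK.range := by
      have := orderOf_dvd_natCard (⟨ψ n, ⟨n, Subgroup.mem_sup_left (Subgroup.mem_zpowers n)⟩, rfl⟩ :
        ψK.range)
      rw [← Subgroup.orderOf_coe] at this
      have ho' : orderOf (ψ n) = 3 := orderOf_eq_prime (by rw [← map_pow, hn3, map_one]) hψn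
      exact ho'.symm.dvd.trans this
    have h24 : Nat.card ψK.range ∣ 24 := card_sl ▸ Subgroup.card_subgroup_dvd_card _
    rw [card_sl]
    exact Nat.dvd_antisymm h24 (Nat.Coprime.mul_dvd_of_dvd_of_dvd (by norm_num : Nat.Coprime 8 3) h8 h3)
  let eK : K ≃* SL := MulEquiv.ofBijective ψK ⟨hKinj, hKsurj⟩
  let fg : SL →* X := K.subtype.comp eK.symm.toMonoidHom
  have ψfg : ∀ A, ψ (fg A) = A := fun A => eK.apply_symm_apply A
  have fgN : ∀ A, fg A ∈ N := fun A => hKN (eK.symm A).2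
  -- representatives inverted by `τ`
  have hex : ∀ v : V2, ∃ r ∈ R, π r = v ∧ τ * r * τ = r⁻¹ := by
    intro v
    obtain ⟨r, hr, rfl⟩ := π_surj v
    obtain ⟨i, hi⟩ := zp_surj _ (π_fib r⁻¹ (inv_mem hr) _ (hτR r hr) (by rw [π_inv r hr, πτ r hr]))
    refine ⟨r * zp i, mul_mem hr (hZR (zp_mem i)), ?_, ?_⟩
    · rw [π_mul r hr _ (hZR (zp_mem i)), π_Z _ (zp_mem i), add_zero]
    · rw [← mul_assoc, mul_assoc (τ * r), ← zpc τ i, ← mul_assoc,
        show τ * r * τ = r⁻¹ * zp i by rw [hi, inv_inv, inv_mul_cancel_left], mul_assoc, ← zp_add,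
        _root_.mul_inv_rev, ← zp_neg, ← zpc r⁻¹]
      congr 2
      exact zmod_double i
  choose ι hιR hιπ hιτ using hex
  have huniq : ∀ (v : V2) (r : X), r ∈ R → π r = v → τ * r * τ = r⁻¹ → r = ι v := by
    intro v r hr h1 h2
    obtain ⟨i, hi⟩ := zp_surj _ (π_fib (ι v) (hιR v) r hr (by rw [hιπ, h1]))
    have e1 : r = ι v * zp i := by rw [hi, mul_inv_cancel_left]
    rw [e1, ← mul_assoc, mul_assoc (τ * ι v), ← zpc τ i, ← mul_assoc, hιτ, _root_.mul_inv_rev, ← zp_neg,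
      ← zpc (ι v)⁻¹, mul_left_cancel_iff] at h2
    have hi0 : i = 0 := by
      exact zmod_self_neg i (zp_inj h2)
    rw [e1, hi0, zp0, mul_one]
  have ι_mul : ∀ v w : V2, ι v * ι w = ι (v + w) * zp (2 * det2 v w) := by
    intro v w
    have hp : ι v * ι w ∈ R := mul_mem (hιR v) (hιR w)
    obtain ⟨d, hd⟩ := zp_surj _ (π_fib (ι (v + w)) (hιR _) _ hp
      (by rw [hιπ, π_mul _ (hιR v) _ (hιR w), hιπ, hιπ]))
    have e1 : ι v * ι w = ι (v + w) * zp d := by rw [hd, mul_inv_cancel_left]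
    have e2 : (ι w * ι v)⁻¹ = (ι (v + w))⁻¹ * zp d := by
      rw [_root_.mul_inv_rev, ← hιτ v, ← hιτ w, ← hιτ (v + w)]
      calc τ * ι v * τ * (τ * ι w * τ) = τ * ι v * (τ * τ) * ι w * τ := by group
        _ = τ * (ι v * ι w) * τ := by rw [hτ2]; group
        _ = τ * ι (v + w) * (zp d * τ) := by rw [e1]; group
        _ = τ * ι (v + w) * τ * zp d := by rw [← zpc τ d]; group
    have e3 : cm (ι v) (ι w) = d + d := by
      show cz _ = _
      rw [show ι v * ι w * (ι v)⁻¹ * (ι w)⁻¹ = ι v * ι w * (ι w * ι v)⁻¹ by group, e1, e2,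
        mul_assoc, ← mul_assoc (zp d), ← zpc (ι (v + w))⁻¹ d, mul_assoc (ι (v + w))⁻¹, ← mul_assoc,
        mul_inv_cancel, one_mul, ← zp_add, cz_zp]
    rw [cm_det _ (hιR v) _ (hιR w), hιπ, hιπ] at e3
    rw [e1]
    congr 2
    exact zmod_half d _ e3
  let fn : Heis (ZMod 3) →* X := MonoidHom.mk' (fun h => ι (h.x, h.y) * zp (2 * h.a)) fun g h => by
    show ι ((g * h).x, (g * h).y) * zp (2 * (g * h).a) =
      ι (g.x, g.y) * zp (2 * g.a) * (ι (h.x, h.y) * zp (2 * h.a))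
    rw [mul_assoc, ← mul_assoc (zp (2 * g.a)), ← zpc (ι (h.x, h.y)), mul_assoc (ι (h.x, h.y)),
      ← mul_assoc (ι (g.x, g.y)), ι_mul, mul_assoc, ← zp_add, ← zp_add]
    congr 2
    simp only [mul_a, det2]
    ring
  have hfn : ∀ h, fn h = ι (h.x, h.y) * zp (2 * h.a) := fun h => rfl
  let Φ : Model (ZMod 3) →* X := SemidirectProduct.lift fn fg fun A => MonoidHom.ext fun h => by
    show fn (act A h) = fg A * fn h * (fg A)⁻¹
    set k := fg A with hk
    rw [hfn, hfn, act_apply]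
    have hkR : k * ι (h.x, h.y) * k⁻¹ ∈ R := S.normal.conj_mem _ (hιR _) k
    have hkn := memN.1 (fgN A)
    rw [← hk] at hkn
    have hk' : τ * k⁻¹ = k⁻¹ * τ := by
      rw [eq_comm, inv_mul_eq_iff_eq_mul, ← mul_assoc, hkn, mul_inv_cancel_right]
    have e1 : k * ι (h.x, h.y) * k⁻¹ = ι ((actFun A h).x, (actFun A h).y) := by
      refine huniq _ _ hkR ?_ ?_
      · have h1 := hM k⁻¹ _ (hιR (h.x, h.y))
        rw [inv_inv, hιπ, ← hψM, map_inv, hk, ψfg, sl_val_inv, Matrix.adjugate_fin_two] at h1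
        rw [hk, h1]
        refine Prod.ext ?_ ?_ <;> simp [rmul, actFun] <;> ring
      · rw [_root_.mul_inv_rev, _root_.mul_inv_rev, inv_inv, ← hιτ]
        calc τ * (k * ι (h.x, h.y) * k⁻¹) * τ = (τ * k) * ι (h.x, h.y) * (k⁻¹ * τ) := by group
          _ = k * (τ * ι (h.x, h.y) * τ * k⁻¹) := by rw [← hkn, ← hk']; group
    rw [← e1, show (actFun A h).a = h.a from rfl]
    calc k * ι (h.x, h.y) * k⁻¹ * zp (2 * h.a) = k * ι (h.x, h.y) * (k⁻¹ * zp (2 * h.a)) := by group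
      _ = k * (ι (h.x, h.y) * zp (2 * h.a)) * k⁻¹ := by rw [zpc k⁻¹]; group
  have hΦ : Function.Injective Φ := by
    rw [injective_iff_map_eq_one]
    intro m hm
    have e0 : fn m.left * fg m.right = 1 := hm
    have e1 : m.right = 1 := by
      have := congrArg ψ e0
      rwa [map_mul, hfn, ψR _ (mul_mem (hιR _) (hZR (zp_mem _))), one_mul, ψfg, map_one] at this
    rw [e1, map_one, mul_one, hfn] at e0
    have e2 : ((m.left.x, m.left.y) : V2) = 0 := by
      have := congrArg π e0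
      rwa [π_mul _ (hιR _) _ (hZR (zp_mem _)), hιπ, π_Z _ (zp_mem _), add_zero, π_one] at this
    have hι0 : ι 0 = 1 := (huniq 0 1 (one_mem _) π_one (by rw [mul_one, hτ2, inv_one])).symm
    rw [e2, hι0, one_mul, ← zp0] at e0
    have e3 : m.left.a = 0 := by
      exact zmod_two_mul _ (zp_inj e0)
    refine SemidirectProduct.ext (Heis.ext ?_ ?_ ?_) e1
    · exact congrArg Prod.fst e2
    · exact congrArg Prod.snd e2
    · exact e3
  haveI := finite_model'
  refine ⟨MulEquiv.ofBijective Φ ((Nat.bijective_iff_injective_and_card _).2 ⟨hΦ, ?_⟩)⟩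
  rw [S.card_X, SemidirectProduct.card, Nat.card_congr Heis.equivProd, Nat.card_prod, Nat.card_prod,
    Nat.card_zmod, card_sl]
where
  finite_model' : Finite (Model (ZMod 3)) := by
    haveI : Finite (Heis (ZMod 3)) := Finite.of_equiv _ Heis.equivProd.symm
    exact Finite.of_equiv _ SemidirectProduct.equivProd.symm

end Cfsg.Agent.HeisSL2
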